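import Mathlib

/-!
# Sylow 2-subgroups of alternating groups: definitions (S2221 farm, architect helper28)

`SW m` is the group `(ZMod 2)^m ⋊ Perm (Fin m)` (signed permutations), written with explicit
pairs `(v, t)` and product `(v, t) * (w, u) = (v + w ∘ t⁻¹, t * u)`.
For a subgroup `T` of `Perm (Fin m)`:
* `X T` = pairs with `t ∈ T`          (`= Z2 ≀ T`, a Sylow 2-subgroup of `S_{2m}` when `T` is one of `S_m`),
* `Y T` = pairs with `t ∈ T`, `∑ v = 0` (a Sylow 2-subgroup of `A_{2m}` and of `A_{2m+1}`).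
-/

set_option autoImplicit false

namespace Cfsg.Agent.Lib.Helper28.SylAlt

/-- `H` is a non-trivial internal direct product. -/
def Decomp (H : Type*) [Group H] : Prop :=
  ∃ A B : Subgroup H, A ≠ ⊥ ∧ B ≠ ⊥ ∧ (∀ a ∈ A, ∀ b ∈ B, a * b = b * a) ∧ A ⊓ B = ⊥ ∧ A ⊔ B = ⊤

/-- signed permutations `(ZMod 2)^m ⋊ S_m`. -/
@[ext] structure SW (m : ℕ) where
  v : Fin m → ZMod 2
  t : Equiv.Perm (Fin m)

namespace SW

variable {m : ℕ}

instance : Mul (SW m) := ⟨fun a b => ⟨fun i => a.v i + b.v (a.t⁻¹ i), a.t * b.t⟩⟩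
instance : One (SW m) := ⟨⟨0, 1⟩⟩
instance : Inv (SW m) := ⟨fun a => ⟨fun i => - a.v (a.t i), a.t⁻¹⟩⟩

@[simp] theorem mul_v (a b : SW m) (i : Fin m) : (a * b).v i = a.v i + b.v (a.t⁻¹ i) := rfl
@[simp] theorem mul_t (a b : SW m) : (a * b).t = a.t * b.t := rfl
@[simp] theorem one_v (i : Fin m) : (1 : SW m).v i = 0 := rfl
@[simp] theorem one_t : (1 : SW m).t = 1 := rfl
@[simp] theorem inv_v (a : SW m) (i : Fin m) : (a⁻¹).v i = - a.v (a.t i) := rfl
@[simp] theorem inv_t (a : SW m) : (a⁻¹).t = a.t⁻¹ := rfl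

instance : Group (SW m) where
  mul_assoc a b c := by
    ext i
    · simp [add_assoc]
    · simp [mul_assoc]
  one_mul a := by ext i <;> simp
  mul_one a := by ext i <;> simp
  inv_mul_cancel a := by
    ext i
    · simp [CharTwo.add_self_eq_zero]
    · simp

/-- `SW m` as a product type (for finiteness and cardinality). -/
def equivProd : SW m ≃ (Fin m → ZMod 2) × Equiv.Perm (Fin m) where
  toFun a := (a.v, a.t)
  invFun p := ⟨p.1, p.2⟩
  left_inv _ := rfl
  right_inv _ := rfl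

instance : Fintype (SW m) := Fintype.ofEquiv _ equivProd.symm
instance : DecidableEq (SW m) := equivProd.decidableEq

/-- projection to the permutation part. -/
def tHom : SW m →* Equiv.Perm (Fin m) where
  toFun a := a.t
  map_one' := rfl
  map_mul' _ _ := rfl

/-- total parity `∑ v` (a homomorphism to `Multiplicative (ZMod 2)`). -/
def par : SW m →* Multiplicative (ZMod 2) where
  toFun a := Multiplicative.ofAdd (∑ i, a.v i)
  map_one' := by simp
  map_mul' a b := by
    rw [← ofAdd_add]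
    congr 1
    simp only [mul_v, Finset.sum_add_distrib]
    congr 1
    exact Equiv.sum_comp (a.t⁻¹) (fun i => b.v i)

/-- the pure "vector" element `(v, 1)`. -/
def vec (v : Fin m → ZMod 2) : SW m := ⟨v, 1⟩
/-- the pure "permutation" element `(0, t)`. -/
def prm (t : Equiv.Perm (Fin m)) : SW m := ⟨0, t⟩

@[simp] theorem vec_v (v : Fin m → ZMod 2) : (vec v).v = v := rfl
@[simp] theorem vec_t (v : Fin m → ZMod 2) : (vec v).t = 1 := rfl
@[simp] theorem prm_v (t : Equiv.Perm (Fin m)) : (prm t).v = 0 := rfl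
@[simp] theorem prm_t (t : Equiv.Perm (Fin m)) : (prm t).t = t := rfl

/-- the action of `SW m` on `Fin m × ZMod 2`: `(v,t) (i, e) = (t i, e + v (t i))`. -/
def act (a : SW m) : Equiv.Perm (Fin m × ZMod 2) where
  toFun p := (a.t p.1, p.2 + a.v (a.t p.1))
  invFun p := (a.t⁻¹ p.1, p.2 - a.v p.1)
  left_inv p := by simp
  right_inv p := by simp

/-- `act` as a homomorphism. -/
def actHom : SW m →* Equiv.Perm (Fin m × ZMod 2) where
  toFun := act
  map_one' := by ext p <;> simp [act]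
  map_mul' a b := by
    ext p
    · simp [act]
    · simp [act]
      abel

end SW

open SW

variable {m : ℕ}

/-- `Z2 ≀ T`. -/
def X (T : Subgroup (Equiv.Perm (Fin m))) : Subgroup (SW m) := T.comap tHom

/-- the even part of `Z2 ≀ T`. -/
def Y (T : Subgroup (Equiv.Perm (Fin m))) : Subgroup (SW m) := T.comap tHom ⊓ par.ker

theorem mem_X {T : Subgroup (Equiv.Perm (Fin m))} {a : SW m} : a ∈ X T ↔ a.t ∈ T := Iff.rfl

theorem mem_Y {T : Subgroup (Equiv.Perm (Fin m))} {a : SW m} :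
    a ∈ Y T ↔ a.t ∈ T ∧ ∑ i, a.v i = 0 := by
  simp only [Y, Subgroup.mem_inf, Subgroup.mem_comap, MonoidHom.mem_ker]
  rfl

/-- the `T`-orbit of `i`. -/
def orb (T : Subgroup (Equiv.Perm (Fin m))) (i : Fin m) : Set (Fin m) := {j | ∃ t ∈ T, t i = j}

/-- `T` is orbit-closed: the restriction of each element of `T` to each `T`-orbit lies in `T`. -/
def OC (T : Subgroup (Equiv.Perm (Fin m))) : Prop :=
  ∀ t ∈ T, ∀ i : Fin m, ∃ u ∈ T, (∀ j ∈ orb T i, u j = t j) ∧ (∀ j, j ∉ orb T i → u j = j)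

end Cfsg.Agent.Lib.Helper28.SylAlt
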