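import Cfsg.Agent.Lib.Helper28.SylAlt.Defs
import Cfsg.Agent.Lib.Helper10.PGroup
import Cfsg.Agent.Lib.Helper24.SylAltB2

/-!
# S2221 piece [E]: `Y T` is directly indecomposable when `T` is an orbit-closed 2-group without
fixed points on `Fin m`, `m ≥ 3`.
-/

set_option autoImplicit false

namespace Cfsg.Agent.Lib.Helper28.SylAlt

open SW Equiv

namespace EvenAux

variable {m : ℕ} (T : Subgroup (Perm (Fin m)))

theorem orb_self (i : Fin m) : i ∈ orb T i := ⟨1, T.one_mem, rfl⟩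

theorem mem_orb_apply {i : Fin m} {t : Perm (Fin m)} (ht : t ∈ T) : t i ∈ orb T i := ⟨t, ht, rfl⟩

theorem orb_symm {i j : Fin m} (h : j ∈ orb T i) : i ∈ orb T j := by
  obtain ⟨t, ht, rfl⟩ := h
  exact ⟨t⁻¹, T.inv_mem ht, by simp⟩

theorem orb_trans {i j k : Fin m} (h1 : j ∈ orb T i) (h2 : k ∈ orb T j) : k ∈ orb T i := by
  obtain ⟨t, ht, rfl⟩ := h1
  obtain ⟨u, hu, rfl⟩ := h2
  exact ⟨u * t, T.mul_mem hu ht, rfl⟩

theorem orb_eq_of_mem {i j : Fin m} (h : j ∈ orb T i) : orb T j = orb T i := by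
  ext k
  exact ⟨fun hk => orb_trans T h hk, fun hk => orb_trans T (orb_symm T h) hk⟩

theorem apply_mem_orb_iff {i j : Fin m} {t : Perm (Fin m)} (ht : t ∈ T) :
    t j ∈ orb T i ↔ j ∈ orb T i := by
  constructor
  · intro h
    exact orb_trans T h (by simpa using mem_orb_apply T (i := t j) (T.inv_mem ht))
  · intro h
    exact orb_trans T h (mem_orb_apply T ht)

theorem inv_apply_mem_orb_iff {i j : Fin m} {t : Perm (Fin m)} (ht : t ∈ T) :
    t⁻¹ j ∈ orb T i ↔ j ∈ orb T i := apply_mem_orb_iff T (T.inv_mem ht)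

/-- elements of `Y T` supported on the orbit of `i`. -/
def PO (i : Fin m) : Subgroup (SW m) where
  carrier := {a | a ∈ Y T ∧ (∀ j, j ∉ orb T i → a.t j = j) ∧ (∀ j, j ∉ orb T i → a.v j = 0)}
  one_mem' := ⟨(Y T).one_mem, fun _ _ => rfl, fun _ _ => rfl⟩
  mul_mem' := by
    rintro a b ⟨ha, ha1, ha2⟩ ⟨hb, hb1, hb2⟩
    refine ⟨(Y T).mul_mem ha hb, fun j hj => ?_, fun j hj => ?_⟩
    · simp [hb1 j hj, ha1 j hj]
    · have : a.t⁻¹ j = j := by
        rw [Perm.inv_eq_iff_eq]; exact (ha1 j hj).symm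
      simp [ha2 j hj, this, hb2 j hj]
  inv_mem' := by
    rintro a ⟨ha, ha1, ha2⟩
    refine ⟨(Y T).inv_mem ha, fun j hj => ?_, fun j hj => ?_⟩
    · simp only [inv_t]
      rw [Perm.inv_eq_iff_eq]; exact (ha1 j hj).symm
    · simp [ha1 j hj, ha2 j hj]

theorem mem_PO {i : Fin m} {a : SW m} : a ∈ PO T i ↔
    a ∈ Y T ∧ (∀ j, j ∉ orb T i → a.t j = j) ∧ (∀ j, j ∉ orb T i → a.v j = 0) := Iff.rfl

theorem PO_le (i : Fin m) : PO T i ≤ Y T := fun _ h => h.1

theorem PO_eq_of_mem {i j : Fin m} (h : j ∈ orb T i) : PO T j = PO T i := by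
  ext a
  simp only [mem_PO, orb_eq_of_mem T h]

theorem vec_mem_Y {w : Fin m → ZMod 2} (hw : ∑ i, w i = 0) : vec w ∈ Y T :=
  mem_Y.mpr ⟨T.one_mem, hw⟩

theorem prm_mem_Y {t : Perm (Fin m)} (ht : t ∈ T) : prm t ∈ Y T :=
  mem_Y.mpr ⟨ht, by simp⟩

/-- `PO T i` is normalised by `Y T`. -/
theorem PO_conj {i : Fin m} {y x : SW m} (hy : y ∈ Y T) (hx : x ∈ PO T i) :
    y * x * y⁻¹ ∈ PO T i := by
  obtain ⟨hxY, hx1, hx2⟩ := hx
  have hyT : y.t ∈ T := (mem_Y.mp hy).1
  refine ⟨(Y T).mul_mem ((Y T).mul_mem hy hxY) ((Y T).inv_mem hy), fun j hj => ?_, fun j hj => ?_⟩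
  · have h1 : y.t.symm j ∉ orb T i := fun h => hj ((inv_apply_mem_orb_iff T hyT).mp h)
    simp [hx1 _ h1]
  · have h1 : y.t.symm j ∉ orb T i := fun h => hj ((inv_apply_mem_orb_iff T hyT).mp h)
    have h2 : x.t.symm (y.t.symm j) = y.t.symm j := by
      rw [Equiv.symm_apply_eq]; exact (hx1 _ h1).symm
    simp [hx2 _ h1, h2, CharTwo.add_self_eq_zero]


theorem zmod2_cases (x : ZMod 2) : x = 0 ∨ x = 1 := by
  revert x; decide

theorem exists_third (hm : 3 ≤ m) (i j : Fin m) : ∃ k : Fin m, k ≠ i ∧ k ≠ j := by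
  by_contra h
  push Not at h
  have hsub : (Finset.univ : Finset (Fin m)) ⊆ {i, j} := by
    intro x _
    by_cases hx : x = i
    · simp [hx]
    · simp [h x hx]
  have h1 := Finset.card_le_card hsub
  have h2 : ({i, j} : Finset (Fin m)).card ≤ 2 := Finset.card_le_two
  simp only [Finset.card_univ, Fintype.card_fin] at h1
  omega

/-- Step A1: a central element of `Y T` has trivial permutation part. -/
theorem central_t (hm : 3 ≤ m) {z : SW m} (hz : ∀ y ∈ Y T, y * z = z * y) : z.t = 1 := by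
  by_contra hne
  obtain ⟨i, hi⟩ : ∃ i, z.t i ≠ i := by
    by_contra h
    push Not at h
    exact hne (Equiv.ext h)
  obtain ⟨k, hki, hkj⟩ := exists_third hm i (z.t i)
  let w : Fin m → ZMod 2 := Pi.single i 1 + Pi.single k 1
  have hw : ∑ x, w x = 0 := by
    simp only [w, Pi.add_apply, Finset.sum_add_distrib, Finset.sum_pi_single', Finset.mem_univ,
      if_true]
    decide
  have h := hz (vec w) (vec_mem_Y T hw)
  have h1 := congrArg (fun a => a.v (z.t i)) h
  simp only [mul_v, vec_v, vec_t, inv_one, Perm.coe_one, id_eq, Perm.coe_inv,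
    Equiv.symm_apply_apply] at h1
  have hwj : w (z.t i) = 0 := by
    simp [w, hi, hkj.symm]
  have hwi : w i = 1 := by
    simp [w, hki.symm]
  rw [hwj, hwi, zero_add] at h1
  have h2 : (1 : ZMod 2) = 0 := by
    have h3 : z.v (z.t i) + (z.v (z.t i) + 1) = z.v (z.t i) + z.v (z.t i) := by rw [← h1]
    rw [← add_assoc, CharTwo.add_self_eq_zero, zero_add] at h3
    exact h3
  exact one_ne_zero h2

/-- Step A2: a central element of `Y T` has `T`-invariant vector part. -/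
theorem central_v (hm : 3 ≤ m) {z : SW m} (hz : ∀ y ∈ Y T, y * z = z * y) {t : Perm (Fin m)}
    (ht : t ∈ T) (x : Fin m) : z.v (t x) = z.v x := by
  have hzt := central_t T hm hz
  have h := hz (prm t⁻¹) (prm_mem_Y T (T.inv_mem ht))
  have h1 := congrArg (fun a => a.v x) h
  simp only [mul_v, prm_v, prm_t, Pi.zero_apply, zero_add, add_zero, hzt, inv_one, inv_inv,
    Perm.coe_one, id_eq] at h1
  exact h1

/-- indicator of the orbit of `k`. -/
noncomputable def ind (k : Fin m) : Fin m → ZMod 2 :=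
  fun j => by classical exact if j ∈ orb T k then 1 else 0

theorem ind_apply_of_mem {k j : Fin m} (h : j ∈ orb T k) : ind T k j = 1 := by
  classical
  simp [ind, h]

theorem ind_apply_of_not_mem {k j : Fin m} (h : j ∉ orb T k) : ind T k j = 0 := by
  classical
  simp [ind, h]

theorem ind_inv (k : Fin m) {t : Perm (Fin m)} (ht : t ∈ T) (x : Fin m) :
    ind T k (t x) = ind T k x := by
  by_cases h : x ∈ orb T k
  · rw [ind_apply_of_mem T h, ind_apply_of_mem T ((apply_mem_orb_iff T ht).mpr h)]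
  · rw [ind_apply_of_not_mem T h,
      ind_apply_of_not_mem T (fun h' => h ((apply_mem_orb_iff T ht).mp h'))]

/-- Step B: central elements of `Y T` inside `PO T i`. -/
theorem central_PO (hm : 3 ≤ m) {i : Fin m} {z : SW m} (hzP : z ∈ PO T i)
    (hz : ∀ y ∈ Y T, y * z = z * y) : z = 1 ∨ z = vec (ind T i) := by
  have hzt := central_t T hm hz
  obtain ⟨-, -, hz2⟩ := hzP
  have hconst : ∀ j ∈ orb T i, z.v j = z.v i := by
    rintro j ⟨t, ht, rfl⟩
    exact central_v T hm hz ht i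
  rcases zmod2_cases (z.v i) with h0 | h1
  · left
    ext j
    · by_cases hj : j ∈ orb T i
      · simp [hconst j hj, h0]
      · simp [hz2 j hj]
    · simp [hzt]
  · right
    ext j
    · by_cases hj : j ∈ orb T i
      · simp [hconst j hj, h1, ind_apply_of_mem T hj]
      · simp [hz2 j hj, ind_apply_of_not_mem T hj]
    · simp [hzt]

theorem ind_sum_zero_off (k : Fin m) : ∀ j, j ∉ orb T k → ind T k j = 0 :=
  fun _ h => ind_apply_of_not_mem T h

/-- Step D: an element centralising `PO T i` has vector part constant on the orbit of `i`. -/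
theorem const_on_orb (hoc : OC T) {i : Fin m} {x : SW m} (hx : ∀ p ∈ PO T i, x * p = p * x) :
    ∀ j ∈ orb T i, x.v j = x.v i := by
  rintro j ⟨u, hu, rfl⟩
  obtain ⟨u', hu', hu1, hu2⟩ := hoc u hu i
  have hp : prm u' ∈ PO T i := ⟨prm_mem_Y T hu', fun j hj => hu2 j hj, fun _ _ => rfl⟩
  have h := hx _ hp
  have h1 := congrArg (fun a => a.v (u' i)) h
  simp only [mul_v, prm_v, prm_t, Pi.zero_apply, zero_add, add_zero, Perm.coe_inv,
    Equiv.symm_apply_apply] at h1
  rw [← hu1 i (orb_self T i)]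
  exact h1


theorem orbit_eq_orb (i : Fin m) : MulAction.orbit ↥T i = orb T i := by
  ext j
  rw [MulAction.mem_orbit_iff]
  constructor
  · rintro ⟨t, rfl⟩
    exact ⟨t.1, t.2, rfl⟩
  · rintro ⟨t, ht, rfl⟩
    exact ⟨⟨t, ht⟩, rfl⟩

/-- the sum of the orbit indicator is `0` (orbits have even size). -/
theorem sum_ind (hT : IsPGroup 2 T) (hfix : ∀ i, ∃ t ∈ T, t i ≠ i) (k : Fin m) :
    ∑ j, ind T k j = 0 := by
  classical
  obtain ⟨n, hn⟩ := hT.card_orbit k
  rw [orbit_eq_orb] at hn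
  have hcard : Nat.card ↥(orb T k) = (Finset.univ.filter (fun j => j ∈ orb T k)).card := by
    rw [Nat.card_eq_fintype_card, Fintype.card_subtype]
  have hsum : ∑ j, ind T k j = ((Finset.univ.filter (fun j => j ∈ orb T k)).card : ZMod 2) := by
    simp only [ind]
    rw [Finset.sum_boole]
  rw [hsum, ← hcard, hn]
  rcases n with _ | n
  · exfalso
    obtain ⟨t, ht, hne⟩ := hfix k
    have h1 : Nat.card ↥(orb T k) = 1 := by simpa using hn
    have h2 : Subsingleton ↥(orb T k) := (Nat.card_eq_one_iff_unique.mp h1).1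
    have h3 := @Subsingleton.elim _ h2 ⟨t k, mem_orb_apply T ht⟩ ⟨k, orb_self T k⟩
    exact hne (congrArg Subtype.val h3)
  · rw [pow_succ]
    push_cast
    rw [show (2 : ZMod 2) = 0 from rfl, mul_zero]

/-- induction principle for `T`-invariant vectors. -/
theorem inv_induction (P : (Fin m → ZMod 2) → Prop) (h0 : P 0)
    (hstep : ∀ v k, P v → P (v + ind T k)) :
    ∀ v : Fin m → ZMod 2, (∀ t ∈ T, ∀ x, v (t x) = v x) → P v := by
  classical
  intro v
  induction' hn : (Finset.univ.filter (fun j => v j ≠ 0)).card using Nat.strong_induction_on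
    with n ih generalizing v
  intro hv
  by_cases hv0 : v = 0
  · rw [hv0]; exact h0
  · obtain ⟨k, hk⟩ : ∃ k, v k ≠ 0 := by
      by_contra h
      push Not at h
      exact hv0 (funext h)
    have hk1 : v k = 1 := (zmod2_cases (v k)).resolve_left hk
    have hvorb : ∀ j ∈ orb T k, v j = 1 := by
      rintro j ⟨t, ht, rfl⟩
      rw [hv t ht k, hk1]
    let v' : Fin m → ZMod 2 := v + ind T k
    have hv'inv : ∀ t ∈ T, ∀ x, v' (t x) = v' x := by
      intro t ht x
      simp only [v', Pi.add_apply, hv t ht x, ind_inv T k ht x]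
    have hsupp : (Finset.univ.filter (fun j => v' j ≠ 0)) ⊂ (Finset.univ.filter (fun j => v j ≠ 0)) := by
      rw [Finset.ssubset_iff_of_subset]
      · refine ⟨k, by simp [hk], ?_⟩
        simp only [Finset.mem_filter, Finset.mem_univ, true_and, v', Pi.add_apply, hk1,
          ind_apply_of_mem T (orb_self T k)]
        rw [CharTwo.add_self_eq_zero]
        simp
      · intro j hj
        simp only [Finset.mem_filter, Finset.mem_univ, true_and, v', Pi.add_apply] at hj ⊢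
        by_cases hjo : j ∈ orb T k
        · rw [hvorb j hjo, ind_apply_of_mem T hjo, CharTwo.add_self_eq_zero] at hj
          exact absurd rfl hj
        · rw [ind_apply_of_not_mem T hjo, add_zero] at hj
          exact hj
    have hlt := Finset.card_lt_card hsupp
    rw [hn] at hlt
    have hP' := ih _ hlt v' rfl hv'inv
    have hvv : v = v' + ind T k := by
      funext j
      simp only [v', Pi.add_apply, add_assoc, CharTwo.add_self_eq_zero, add_zero]
    rw [hvv]
    exact hstep _ _ hP'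

/-- a `T`-invariant vector has even weight. -/
theorem sum_eq_zero_of_inv (hT : IsPGroup 2 T) (hfix : ∀ i, ∃ t ∈ T, t i ≠ i)
    (v : Fin m → ZMod 2) (hv : ∀ t ∈ T, ∀ x, v (t x) = v x) : ∑ j, v j = 0 := by
  refine inv_induction T (fun v => ∑ j, v j = 0) (by simp) ?_ v hv
  intro v k hv
  simp only [Pi.add_apply, Finset.sum_add_distrib, hv, sum_ind T hT hfix k, add_zero]


section Generic

variable {G : Type*} [Group G]

/-- elements of the join of two commuting subgroups are products. -/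
theorem mem_sup_comm {A B : Subgroup G} (hAB : ∀ a ∈ A, ∀ b ∈ B, a * b = b * a) {y : G}
    (hy : y ∈ A ⊔ B) : ∃ a ∈ A, ∃ b ∈ B, y = a * b := by
  rw [Subgroup.sup_eq_closure] at hy
  induction hy using Subgroup.closure_induction with
  | mem x hx =>
    rcases hx with hx | hx
    · exact ⟨x, hx, 1, B.one_mem, by simp⟩
    · exact ⟨1, A.one_mem, x, hx, by simp⟩
  | one => exact ⟨1, A.one_mem, 1, B.one_mem, by simp⟩
  | mul x y _ _ hx hy =>
    obtain ⟨a, ha, b, hb, rfl⟩ := hx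
    obtain ⟨a', ha', b', hb', rfl⟩ := hy
    refine ⟨a * a', A.mul_mem ha ha', b * b', B.mul_mem hb hb', ?_⟩
    calc a * b * (a' * b') = a * (b * a') * b' := by group
      _ = a * (a' * b) * b' := by rw [hAB a' ha' b hb]
      _ = a * a' * (b * b') := by group
  | inv x _ hx =>
    obtain ⟨a, ha, b, hb, rfl⟩ := hx
    refine ⟨a⁻¹, A.inv_mem ha, b⁻¹, B.inv_mem hb, ?_⟩
    rw [mul_inv_rev, hAB a⁻¹ (A.inv_mem ha) b⁻¹ (B.inv_mem hb)]

/-- Lemma L (internal form). -/
theorem lemmaL (P A B N : Subgroup G) [Finite P] (hP : IsPGroup 2 P) (hA : A ≤ P) (hB : B ≤ P)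
    (hAB : ∀ a ∈ A, ∀ b ∈ B, a * b = b * a) (hinf : A ⊓ B = ⊥) (hsup : A ⊔ B = P)
    (hNP : N ≤ P) (hnorm : ∀ y ∈ P, ∀ x ∈ N, y * x * y⁻¹ ∈ N) (z₀ : G)
    (hz : ∀ z ∈ N, (∀ y ∈ P, y * z = z * y) → z = 1 ∨ z = z₀) :
    (∀ a ∈ A, ∀ x ∈ N, a * x = x * a) ∨ (∀ b ∈ B, ∀ x ∈ N, b * x = x * b) := by
  -- `A` and `B` are normalised by `P`
  have hAnorm : ∀ y ∈ P, ∀ a ∈ A, y * a * y⁻¹ ∈ A := by
    intro y hy a ha
    rw [← hsup] at hy
    obtain ⟨a', ha', b', hb', rfl⟩ := mem_sup_comm hAB hy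
    have : a' * b' * a * (a' * b')⁻¹ = a' * a * a'⁻¹ := by
      have h1 : b' * a = a * b' := (hAB a ha b' hb').symm
      calc a' * b' * a * (a' * b')⁻¹ = a' * (b' * a) * b'⁻¹ * a'⁻¹ := by group
        _ = a' * (a * b') * b'⁻¹ * a'⁻¹ := by rw [h1]
        _ = a' * a * a'⁻¹ := by group
    rw [this]
    exact A.mul_mem (A.mul_mem ha' ha) (A.inv_mem ha')
  have hBnorm : ∀ y ∈ P, ∀ b ∈ B, y * b * y⁻¹ ∈ B := by
    intro y hy b hb
    rw [← hsup] at hy
    obtain ⟨a', ha', b', hb', rfl⟩ := mem_sup_comm hAB hy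
    have : a' * b' * b * (a' * b')⁻¹ = b' * b * b'⁻¹ := by
      have h1 : a' * (b' * b * b'⁻¹) = (b' * b * b'⁻¹) * a' :=
        hAB a' ha' _ (B.mul_mem (B.mul_mem hb' hb) (B.inv_mem hb'))
      calc a' * b' * b * (a' * b')⁻¹ = a' * (b' * b * b'⁻¹) * a'⁻¹ := by group
        _ = (b' * b * b'⁻¹) * a' * a'⁻¹ := by rw [h1]
        _ = b' * b * b'⁻¹ := by group
    rw [this]
    exact B.mul_mem (B.mul_mem hb' hb) (B.inv_mem hb')
  -- key: a subgroup `M ≤ N` normalised by `P` and nontrivial contains `z₀ ≠ 1`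
  have key : ∀ M : Subgroup G, M ≤ N → (∀ y ∈ P, ∀ x ∈ M, y * x * y⁻¹ ∈ M) → M ≠ ⊥ →
      z₀ ∈ M ∧ z₀ ≠ 1 := by
    intro M hMN hMnorm hM
    let M' : Subgroup P := M.subgroupOf P
    have hM'n : M'.Normal := by
      constructor
      intro x hx y
      rw [Subgroup.mem_subgroupOf] at hx ⊢
      simpa using hMnorm y.1 y.2 x.1 hx
    have hM' : M' ≠ ⊥ := by
      intro h
      apply hM
      rw [Subgroup.eq_bot_iff_forall]
      intro x hx
      have hxP : x ∈ P := hNP (hMN hx)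
      have : (⟨x, hxP⟩ : P) ∈ M' := by rw [Subgroup.mem_subgroupOf]; exact hx
      rw [h, Subgroup.mem_bot] at this
      exact congrArg Subtype.val this
    have := Cfsg.Agent.Lib.Helper10.normal_inf_center_ne_bot hP M' hM'
    rw [Ne, Subgroup.eq_bot_iff_forall] at this
    push Not at this
    obtain ⟨c, hc, hc1⟩ := this
    rw [Subgroup.mem_inf, Subgroup.mem_subgroupOf, Subgroup.mem_center_iff] at hc
    have hcz : ∀ y ∈ P, y * c.1 = c.1 * y := by
      intro y hy
      have := hc.2 ⟨y, hy⟩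
      exact congrArg Subtype.val this
    have hc1' : c.1 ≠ 1 := fun h => hc1 (Subtype.ext h)
    rcases hz c.1 (hMN hc.1) hcz with h | h
    · exact absurd h hc1'
    · rw [← h]; exact ⟨hc.1, hc1'⟩
  by_contra hcon
  push Not at hcon
  obtain ⟨⟨a0, ha0, x0, hx0, hne0⟩, ⟨b0, hb0, x1, hx1, hne1⟩⟩ := hcon
  have hAN : A ⊓ N ≠ ⊥ := by
    intro h
    have hc : a0 * x0 * a0⁻¹ * x0⁻¹ ∈ A ⊓ N := by
      refine Subgroup.mem_inf.mpr ⟨?_, ?_⟩
      · have h1 : x0 * a0⁻¹ * x0⁻¹ ∈ A := hAnorm x0 (hNP hx0) _ (A.inv_mem ha0)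
        have h2 : a0 * x0 * a0⁻¹ * x0⁻¹ = a0 * (x0 * a0⁻¹ * x0⁻¹) := by group
        rw [h2]; exact A.mul_mem ha0 h1
      · exact N.mul_mem (hnorm a0 (hA ha0) x0 hx0) (N.inv_mem hx0)
    rw [h, Subgroup.mem_bot] at hc
    apply hne0
    calc a0 * x0 = (a0 * x0 * a0⁻¹ * x0⁻¹) * (x0 * a0) := by group
      _ = x0 * a0 := by rw [hc, one_mul]
  have hBN : B ⊓ N ≠ ⊥ := by
    intro h
    have hc : b0 * x1 * b0⁻¹ * x1⁻¹ ∈ B ⊓ N := by
      refine Subgroup.mem_inf.mpr ⟨?_, ?_⟩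
      · have h1 : x1 * b0⁻¹ * x1⁻¹ ∈ B := hBnorm x1 (hNP hx1) _ (B.inv_mem hb0)
        have h2 : b0 * x1 * b0⁻¹ * x1⁻¹ = b0 * (x1 * b0⁻¹ * x1⁻¹) := by group
        rw [h2]; exact B.mul_mem hb0 h1
      · exact N.mul_mem (hnorm b0 (hB hb0) x1 hx1) (N.inv_mem hx1)
    rw [h, Subgroup.mem_bot] at hc
    apply hne1
    calc b0 * x1 = (b0 * x1 * b0⁻¹ * x1⁻¹) * (x1 * b0) := by group
      _ = x1 * b0 := by rw [hc, one_mul]
  have h1 := key (A ⊓ N) inf_le_right (fun y hy x hx =>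
    Subgroup.mem_inf.mpr ⟨hAnorm y hy x (Subgroup.mem_inf.mp hx).1,
      hnorm y hy x (Subgroup.mem_inf.mp hx).2⟩) hAN
  have h2 := key (B ⊓ N) inf_le_right (fun y hy x hx =>
    Subgroup.mem_inf.mpr ⟨hBnorm y hy x (Subgroup.mem_inf.mp hx).1,
      hnorm y hy x (Subgroup.mem_inf.mp hx).2⟩) hBN
  have : z₀ ∈ A ⊓ B := Subgroup.mem_inf.mpr ⟨(Subgroup.mem_inf.mp h1.1).1, (Subgroup.mem_inf.mp h2.1).1⟩
  rw [hinf, Subgroup.mem_bot] at this
  exact h1.2 this

end Generic


section Generic2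

variable {G : Type*} [Group G]

/-- in an internal direct product `P = A × B` the factor `B` is normalised by `P`. -/
theorem norm_right (P A B : Subgroup G) (hAB : ∀ a ∈ A, ∀ b ∈ B, a * b = b * a)
    (hsup : A ⊔ B = P) : ∀ y ∈ P, ∀ b ∈ B, y * b * y⁻¹ ∈ B := by
  intro y hy b hb
  rw [← hsup] at hy
  obtain ⟨a', ha', b', hb', rfl⟩ := mem_sup_comm hAB hy
  have : a' * b' * b * (a' * b')⁻¹ = b' * b * b'⁻¹ := by
    have h1 : a' * (b' * b * b'⁻¹) = (b' * b * b'⁻¹) * a' :=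
      hAB a' ha' _ (B.mul_mem (B.mul_mem hb' hb) (B.inv_mem hb'))
    calc a' * b' * b * (a' * b')⁻¹ = a' * (b' * b * b'⁻¹) * a'⁻¹ := by group
      _ = (b' * b * b'⁻¹) * a' * a'⁻¹ := by rw [h1]
      _ = b' * b * b'⁻¹ := by group
  rw [this]
  exact B.mul_mem (B.mul_mem hb' hb) (B.inv_mem hb')

/-- a nontrivial subgroup `M ≤ N` normalised by the finite 2-group `P` contains the only
possible nontrivial central element `z₀` of `P` in `N`. -/
theorem contains_z (P N M : Subgroup G) [Finite P] (hP : IsPGroup 2 P) (hNP : N ≤ P) (hMN : M ≤ N)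
    (hMnorm : ∀ y ∈ P, ∀ x ∈ M, y * x * y⁻¹ ∈ M) (hM : M ≠ ⊥) (z₀ : G)
    (hz : ∀ z ∈ N, (∀ y ∈ P, y * z = z * y) → z = 1 ∨ z = z₀) : z₀ ∈ M ∧ z₀ ≠ 1 := by
  let M' : Subgroup P := M.subgroupOf P
  have hM'n : M'.Normal := by
    constructor
    intro x hx y
    rw [Subgroup.mem_subgroupOf] at hx ⊢
    simpa using hMnorm y.1 y.2 x.1 hx
  have hM' : M' ≠ ⊥ := by
    intro h
    apply hM
    rw [Subgroup.eq_bot_iff_forall]
    intro x hx
    have hxP : x ∈ P := hNP (hMN hx)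
    have : (⟨x, hxP⟩ : P) ∈ M' := by rw [Subgroup.mem_subgroupOf]; exact hx
    rw [h, Subgroup.mem_bot] at this
    exact congrArg Subtype.val this
  have := Cfsg.Agent.Lib.Helper10.normal_inf_center_ne_bot hP M' hM'
  rw [Ne, Subgroup.eq_bot_iff_forall] at this
  push Not at this
  obtain ⟨c, hc, hc1⟩ := this
  rw [Subgroup.mem_inf, Subgroup.mem_subgroupOf, Subgroup.mem_center_iff] at hc
  have hcz : ∀ y ∈ P, y * c.1 = c.1 * y := by
    intro y hy
    have := hc.2 ⟨y, hy⟩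
    exact congrArg Subtype.val this
  have hc1' : c.1 ≠ 1 := fun h => hc1 (Subtype.ext h)
  rcases hz c.1 (hMN hc.1) hcz with h | h
  · exact absurd h hc1'
  · rw [← h]; exact ⟨hc.1, hc1'⟩

end Generic2

theorem isPGroup_Y (hT : IsPGroup 2 T) (hm : 1 ≤ m) : IsPGroup 2 ↥(Y T) := by
  obtain ⟨k, hk⟩ := IsPGroup.iff_card.mp hT
  have h := card_Y T hm
  exact IsPGroup.of_card (n := m - 1 + k) (by rw [h, hk, pow_add])

theorem vec_add (v w : Fin m → ZMod 2) : vec (v + w) = vec v * vec w := by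
  ext j <;> simp

theorem vec_zero : vec (0 : Fin m → ZMod 2) = 1 := rfl

/-- the case where `A` centralises every `PO T i`. -/
theorem case_all (hT : IsPGroup 2 T) (hm : 3 ≤ m) (hfix : ∀ i, ∃ t ∈ T, t i ≠ i) (hoc : OC T)
    (A B : Subgroup (SW m)) (hA : A ≤ Y T) (hB : B ≤ Y T) (hA1 : A ≠ ⊥)
    (hAB : ∀ a ∈ A, ∀ b ∈ B, a * b = b * a) (hinf : A ⊓ B = ⊥) (hsup : A ⊔ B = Y T)
    (hall : ∀ i, ∀ a ∈ A, ∀ x ∈ PO T i, a * x = x * a) : False := by
  have hP : IsPGroup 2 ↥(Y T) := isPGroup_Y T hT (by omega)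
  have hAT : ∀ a ∈ A, a.t ∈ T := fun a ha => (mem_Y.mp (hA ha)).1
  -- (a) invariance
  have hinv : ∀ a ∈ A, ∀ t ∈ T, ∀ x, a.v (t x) = a.v x := by
    intro a ha t ht x
    exact const_on_orb T hoc (hall x a ha) (t x) (mem_orb_apply T ht)
  -- (b) `A` is abelian
  have habel : ∀ a ∈ A, ∀ a' ∈ A, a * a' = a' * a := by
    intro a ha a' ha'
    ext k
    · simp only [mul_v]
      have h1 : a'.v (a.t⁻¹ k) = a'.v k := hinv a' ha' _ (T.inv_mem (hAT a ha)) k
      have h2 : a.v (a'.t⁻¹ k) = a.v k := hinv a ha _ (T.inv_mem (hAT a' ha')) k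
      rw [h1, h2, add_comm]
    · simp only [mul_t, Perm.coe_mul, Function.comp_apply]
      obtain ⟨u', hu', hu1, hu2⟩ := hoc a'.t (hAT a' ha') k
      have hp : prm u' ∈ PO T k := ⟨prm_mem_Y T hu', fun j hj => hu2 j hj, fun _ _ => rfl⟩
      have h := hall k a ha _ hp
      have ht : a.t * u' = u' * a.t := by
        have := congrArg SW.t h
        simpa using this
      have h3 : a.t (u' k) = u' (a.t k) := by
        have := congrArg (fun f : Perm (Fin m) => f k) ht
        simpa using this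
      rw [← hu1 k (orb_self T k), h3, hu1 _ (mem_orb_apply T (hAT a ha))]
  -- (c) `A` is central in `Y T`
  have hcen : ∀ a ∈ A, ∀ y ∈ Y T, y * a = a * y := by
    intro a ha y hy
    rw [← hsup] at hy
    obtain ⟨α, hα, β, hβ, rfl⟩ := mem_sup_comm hAB hy
    calc α * β * a = α * (β * a) := by group
      _ = α * (a * β) := by rw [hAB a ha β hβ]
      _ = (α * a) * β := by group
      _ = (a * α) * β := by rw [habel α hα a ha]
      _ = a * (α * β) := by group
  -- (d) commutators lie in `B`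
  have hBnorm := norm_right (Y T) A B hAB hsup
  have hcommB : ∀ y ∈ Y T, ∀ y' ∈ Y T, y * y' * y⁻¹ * y'⁻¹ ∈ B := by
    intro y hy y' hy'
    have hy0 := hy
    rw [← hsup] at hy
    obtain ⟨α, hα, β, hβ, rfl⟩ := mem_sup_comm hAB hy
    have hβY : β ∈ Y T := hB hβ
    have h1 : α * β * y' * (α * β)⁻¹ = β * y' * β⁻¹ := by
      have h2 := hcen α hα (β * y' * β⁻¹)
        ((Y T).mul_mem ((Y T).mul_mem hβY hy') ((Y T).inv_mem hβY))
      calc α * β * y' * (α * β)⁻¹ = α * (β * y' * β⁻¹) * α⁻¹ := by group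
        _ = (β * y' * β⁻¹) * α * α⁻¹ := by rw [← h2]
        _ = β * y' * β⁻¹ := by group
    rw [h1]
    have h3 : β * y' * β⁻¹ * y'⁻¹ = β * (y' * β⁻¹ * y'⁻¹) := by group
    rw [h3]
    exact B.mul_mem hβ (hBnorm y' hy' _ (B.inv_mem hβ))
  -- (e) every orbit indicator lies in `B`
  have hzB : ∀ k, vec (ind T k) ∈ B := by
    intro k
    obtain ⟨u, hu, huk⟩ := hfix k
    obtain ⟨u', hu', hu1, hu2⟩ := hoc u hu k
    have hu'k : u' k ≠ k := by rw [hu1 k (orb_self T k)]; exact huk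
    obtain ⟨x, hxk, hxu⟩ := exists_third hm k (u'⁻¹ k)
    let w : Fin m → ZMod 2 := Pi.single k 1 + Pi.single x 1
    have hw : ∑ j, w j = 0 := by
      simp only [w, Pi.add_apply, Finset.sum_add_distrib, Finset.sum_pi_single', Finset.mem_univ,
        if_true]
      decide
    let c : SW m := vec w * prm u' * (vec w)⁻¹ * (prm u')⁻¹
    have hcB : c ∈ B := hcommB _ (vec_mem_Y T hw) _ (prm_mem_Y T hu')
    have hct : c.t = 1 := by simp [c]
    have hcv : ∀ j, c.v j = w j - w (u'⁻¹ j) := by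
      intro j
      simp [c, sub_eq_add_neg]
    have hcP : c ∈ PO T k := by
      refine ⟨hB hcB, fun j _ => by rw [hct]; rfl, fun j hj => ?_⟩
      rw [hcv]
      have : u'⁻¹ j = j := by
        rw [Perm.inv_eq_iff_eq]; exact (hu2 j hj).symm
      rw [this, sub_self]
    have hc1 : c ≠ 1 := by
      intro h
      have h1 : c.v k = 0 := by rw [h]; rfl
      rw [hcv] at h1
      have hwk : w k = 1 := by simp [w, hxk]
      have hwu : w (u'⁻¹ k) = 0 := by
        have h2 : u'⁻¹ k ≠ k := by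
          intro h3
          apply hu'k
          rw [Perm.inv_eq_iff_eq] at h3
          exact h3.symm
        have h2' : (Equiv.symm u') k ≠ k := h2
        have hxu' : (Equiv.symm u') k ≠ x := fun h4 => hxu h4.symm
        simp [w, h2', hxu']
      rw [hwk, hwu, sub_zero] at h1
      exact one_ne_zero h1
    have hM : B ⊓ PO T k ≠ ⊥ := by
      intro h
      have : c ∈ B ⊓ PO T k := Subgroup.mem_inf.mpr ⟨hcB, hcP⟩
      rw [h, Subgroup.mem_bot] at this
      exact hc1 this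
    have := contains_z (Y T) (PO T k) (B ⊓ PO T k) hP (PO_le T k) inf_le_right
      (fun y hy x hx => Subgroup.mem_inf.mpr ⟨hBnorm y hy x (Subgroup.mem_inf.mp hx).1,
        PO_conj T hy (Subgroup.mem_inf.mp hx).2⟩) hM (vec (ind T k))
      (fun z hz hzc => central_PO T hm hz hzc)
    exact (Subgroup.mem_inf.mp this.1).1
  -- (f) every invariant vector lies in `B`
  have hinvB : ∀ v : Fin m → ZMod 2, (∀ t ∈ T, ∀ x, v (t x) = v x) → vec v ∈ B := by
    refine inv_induction T (fun v => vec v ∈ B) ?_ ?_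
    · rw [vec_zero]; exact B.one_mem
    · intro v k hv
      rw [vec_add]
      exact B.mul_mem hv (hzB k)
  -- (g) conclusion
  obtain ⟨a, ha, ha1⟩ : ∃ a ∈ A, a ≠ 1 := by
    by_contra h
    push Not at h
    exact hA1 ((Subgroup.eq_bot_iff_forall A).mpr h)
  have hat : a.t = 1 := central_t T hm (hcen a ha)
  have haeq : a = vec a.v := by
    ext j
    · rfl
    · simp [hat]
  have haB : a ∈ B := by
    rw [haeq]
    exact hinvB a.v (hinv a ha)
  have : a ∈ A ⊓ B := Subgroup.mem_inf.mpr ⟨ha, haB⟩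
  rw [hinf, Subgroup.mem_bot] at this
  exact ha1 this


/-- internal form of the indecomposability of `Y T`. -/
theorem no_decomp (hT : IsPGroup 2 T) (hm : 3 ≤ m) (hfix : ∀ i, ∃ t ∈ T, t i ≠ i) (hoc : OC T)
    (A B : Subgroup (SW m)) (hA : A ≤ Y T) (hB : B ≤ Y T) (hA1 : A ≠ ⊥) (hB1 : B ≠ ⊥)
    (hAB : ∀ a ∈ A, ∀ b ∈ B, a * b = b * a) (hinf : A ⊓ B = ⊥) (hsup : A ⊔ B = Y T) : False := by
  classical
  have hP : IsPGroup 2 ↥(Y T) := isPGroup_Y T hT (by omega)
  have hL : ∀ i, (∀ a ∈ A, ∀ x ∈ PO T i, a * x = x * a) ∨ (∀ b ∈ B, ∀ x ∈ PO T i, b * x = x * b) :=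
    fun i => lemmaL (Y T) A B (PO T i) hP hA hB hAB hinf hsup (PO_le T i)
      (fun y hy x hx => PO_conj T hy hx) (vec (ind T i)) (fun z hz hzc => central_PO T hm hz hzc)
  by_cases h1 : ∀ i, ∀ a ∈ A, ∀ x ∈ PO T i, a * x = x * a
  · exact case_all T hT hm hfix hoc A B hA hB hA1 hAB hinf hsup h1
  by_cases h2 : ∀ i, ∀ b ∈ B, ∀ x ∈ PO T i, b * x = x * b
  · exact case_all T hT hm hfix hoc B A hB hA hB1 (fun b hb a ha => (hAB a ha b hb).symm)
      (by rw [inf_comm]; exact hinf) (by rw [sup_comm]; exact hsup) h2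
  push Not at h1 h2
  obtain ⟨i, hi⟩ := h1
  obtain ⟨j, hj⟩ := h2
  -- `S` = the points whose `PO` is not centralised by `A`
  let S : Fin m → Prop := fun k => ¬ ∀ a ∈ A, ∀ x ∈ PO T k, a * x = x * a
  have hiS : S i := by
    intro h
    obtain ⟨a, ha, x, hx, hne⟩ := hi
    exact hne (h a ha x hx)
  have hjS : ¬ S j := by
    intro h
    rcases hL j with h3 | h3
    · exact h h3
    · obtain ⟨b, hb, x, hx, hne⟩ := hj
      exact hne (h3 b hb x hx)
  have hSinv : ∀ t ∈ T, ∀ k, S (t k) ↔ S k := by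
    intro t ht k
    simp only [S]
    rw [PO_eq_of_mem T (mem_orb_apply T ht)]
  have hSB : ∀ k, S k → ∀ b ∈ B, ∀ x ∈ PO T k, b * x = x * b := fun k hk =>
    (hL k).resolve_left hk
  have hSA : ∀ k, ¬ S k → ∀ a ∈ A, ∀ x ∈ PO T k, a * x = x * a := fun k hk => not_not.mp hk
  have hij : i ≠ j := by
    rintro rfl
    exact hjS hiS
  let w : Fin m → ZMod 2 := Pi.single i 1 + Pi.single j 1
  have hw : ∑ k, w k = 0 := by
    simp only [w, Pi.add_apply, Finset.sum_add_distrib, Finset.sum_pi_single', Finset.mem_univ,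
      if_true]
    decide
  have hy : vec w ∈ A ⊔ B := by rw [hsup]; exact vec_mem_Y T hw
  obtain ⟨α, hα, β, hβ, hαβ⟩ := mem_sup_comm hAB hy
  have hαT : α.t ∈ T := (mem_Y.mp (hA hα)).1
  -- the two invariant vectors
  let g₁ : Fin m → ZMod 2 := fun k => if S k then 0 else α.v k
  let g₂ : Fin m → ZMod 2 := fun k => if S k then β.v k else 0
  have hg₁ : ∀ t ∈ T, ∀ x, g₁ (t x) = g₁ x := by
    intro t ht x
    simp only [g₁]
    by_cases hx : S x
    · rw [if_pos hx, if_pos ((hSinv t ht x).mpr hx)]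
    · rw [if_neg hx, if_neg (fun h => hx ((hSinv t ht x).mp h))]
      exact const_on_orb T hoc (hSA x hx α hα) (t x) (mem_orb_apply T ht)
  have hg₂ : ∀ t ∈ T, ∀ x, g₂ (t x) = g₂ x := by
    intro t ht x
    simp only [g₂]
    by_cases hx : S x
    · rw [if_pos hx, if_pos ((hSinv t ht x).mpr hx)]
      exact const_on_orb T hoc (hSB x hx β hβ) (t x) (mem_orb_apply T ht)
    · rw [if_neg hx, if_neg (fun h => hx ((hSinv t ht x).mp h))]
  have hs₁ := sum_eq_zero_of_inv T hT hfix g₁ hg₁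
  have hs₂ := sum_eq_zero_of_inv T hT hfix g₂ hg₂
  -- total parity of `α`
  have hα0 : ∑ k, α.v k = 0 := (mem_Y.mp (hA hα)).2
  have hαS : ∑ k, (if S k then α.v k else 0) = 0 := by
    have : ∀ k, α.v k = (if S k then α.v k else 0) + g₁ k := by
      intro k
      simp only [g₁]
      by_cases hk : S k <;> simp [hk]
    rw [Finset.sum_congr rfl (fun k _ => this k), Finset.sum_add_distrib, hs₁, add_zero] at hα0
    exact hα0
  -- restricted parity of `vec w = α * β`
  have hyS : ∑ k, (if S k then w k else 0) = 1 := by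
    have : ∀ k, (if S k then w k else 0) = (Pi.single i (1 : ZMod 2) : Fin m → ZMod 2) k := by
      intro k
      simp only [w, Pi.add_apply, Pi.single_apply]
      by_cases hki : k = i
      · subst hki
        simp [hiS, hij]
      · by_cases hkj : k = j
        · subst hkj
          simp [hjS, hki]
        · simp [hki, hkj]
    rw [Finset.sum_congr rfl (fun k _ => this k)]
    simp
  have hβS : ∑ k, (if S k then β.v (α.t⁻¹ k) else 0) = 0 := by
    have h3 : ∑ k, (if S k then β.v (α.t⁻¹ k) else 0) = ∑ k, g₂ (α.t⁻¹ k) := by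
      refine Finset.sum_congr rfl (fun k _ => ?_)
      simp only [g₂]
      by_cases hk : S k
      · rw [if_pos hk, if_pos ((hSinv _ (T.inv_mem hαT) k).mpr hk)]
      · rw [if_neg hk, if_neg (fun h => hk ((hSinv _ (T.inv_mem hαT) k).mp h))]
    rw [h3, Equiv.sum_comp (α.t⁻¹) g₂, hs₂]
  have hsum : ∑ k, (if S k then w k else 0) =
      ∑ k, (if S k then α.v k else 0) + ∑ k, (if S k then β.v (α.t⁻¹ k) else 0) := by
    rw [← Finset.sum_add_distrib]
    refine Finset.sum_congr rfl (fun k _ => ?_)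
    have hwk : w k = α.v k + β.v (α.t⁻¹ k) := by
      have := congrArg (fun a : SW m => a.v k) hαβ
      simpa using this
    by_cases hk : S k <;> simp [hk, hwk]
  rw [hyS, hαS, hβS, add_zero] at hsum
  exact one_ne_zero hsum

end EvenAux

/-- **S2221 piece [E]**: for an orbit-closed 2-group `T ≤ Perm (Fin m)` without fixed points,
`m ≥ 3`, the group `Y T` is not a nontrivial direct product. -/
theorem indecomp_Y_even {m : ℕ} (T : Subgroup (Perm (Fin m))) (hT : IsPGroup 2 T) (hm : 3 ≤ m)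
    (hfix : ∀ i, ∃ t ∈ T, t i ≠ i) (hoc : OC T) : ¬ Decomp ↥(Y T) := by
  rintro ⟨A', B', hA1, hB1, hAB, hinf, hsup⟩
  have hinj : Function.Injective (Y T).subtype := Subtype.coe_injective
  refine EvenAux.no_decomp T hT hm hfix hoc (A'.map (Y T).subtype) (B'.map (Y T).subtype)
    (Subgroup.map_subtype_le A') (Subgroup.map_subtype_le B') ?_ ?_ ?_ ?_ ?_
  · rwa [Ne, Subgroup.map_eq_bot_iff_of_injective _ hinj]
  · rwa [Ne, Subgroup.map_eq_bot_iff_of_injective _ hinj]
  · rintro _ ⟨a, ha, rfl⟩ _ ⟨b, hb, rfl⟩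
    have := hAB a ha b hb
    exact congrArg Subtype.val this
  · rw [← Subgroup.map_inf _ _ _ hinj, hinf, Subgroup.map_bot]
  · rw [← Subgroup.map_sup, hsup, ← MonoidHom.range_eq_map, Subgroup.range_subtype]

end Cfsg.Agent.Lib.Helper28.SylAlt
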